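import Groth.Agent.Lib.NefPull
import Groth.Agent.NormCurve.Delta
import Groth.Agent.NagataLib.Scheme
import Groth.Agent.CurveRes.Basic

/-!
# Nefness from regular test curves
-/

set_option autoImplicit false
set_option backward.isDefEq.respectTransparency false
set_option backward.isDefEq.respectTransparency.types false
set_option linter.style.haveILetI false
set_option maxHeartbeats 800000

universe u

open CategoryTheory CategoryTheory.Limits AlgebraicGeometry TopologicalSpace

namespace Groth.Agent.CurveTest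

open Groth.Agent

variable (k : Type u) [Field k]

/-- Regular projective test curves see only nonnegative quotients of `E`. -/
def CurveNef {Y : Scheme.{u}} [Y.Over (Spec (CommRingCat.of k))] (E : Y.Modules) : Prop :=
  ∀ (C : Scheme.{u}) [C.Over (Spec (CommRingCat.of k))] [IsProper (C ↘ (Spec (CommRingCat.of k)))] [IsIntegral C],
    topologicalKrullDim C = 1 → (∀ x : C, IsRegularLocalRing (C.presheaf.stalk x)) →
    ∀ (g : C ⟶ Y), g ≫ (Y ↘ (Spec (CommRingCat.of k))) = C ↘ (Spec (CommRingCat.of k)) →
    ∀ (M : C.Modules), PicF.IsInvertible M →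
    ∀ (q : (Scheme.Modules.pullback g).obj E ⟶ M), Epi q → 0 ≤ Curv2.deg k C M 1

/-- An integral proper curve is the image of a regular one. -/
theorem exists_regular_cover {D : Scheme.{u}} [D.Over (Spec (CommRingCat.of k))] [IsIntegral D]
    [IsProper (D ↘ Spec (CommRingCat.of k))] (hdim : topologicalKrullDim D = 1) :
    ∃ (C : Scheme.{u}) (_ : C.Over (Spec (CommRingCat.of k))) (_ : IsProper (C ↘ Spec (CommRingCat.of k)))
      (_ : IsIntegral C) (n : C ⟶ D), topologicalKrullDim C = 1 ∧
      (∀ x : C, IsRegularLocalRing (C.presheaf.stalk x)) ∧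
      n ≫ (D ↘ Spec (CommRingCat.of k)) = C ↘ Spec (CommRingCat.of k) ∧ n (genericPoint C) = genericPoint D := by
  let g := D ↘ Spec (CommRingCat.of k)
  haveI : IsLocallyNoetherian D := LocallyOfFiniteType.isLocallyNoetherian g
  haveI : CompactSpace D := QuasiCompact.compactSpace_of_compactSpace g
  haveI : IsNoetherian D := {}
  have hN := fun U : D.affineOpens => NagataLib.isNagata_affineOpen g U
  haveI := NormCurve.isFinite_normalizationι D hN
  obtain ⟨V, hV, hVi⟩ := NormCurve.exists_isIso D hN
  haveI : IsIntegral (Curv2.normalization D) :=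
    inferInstanceAs (IsIntegral (D.fromSpecStalk (genericPoint D)).normalization)
  let ι := Curv2.normalizationι D
  haveI := hVi
  letI : (Curv2.normalization D).Over (Spec (CommRingCat.of k)) := ⟨ι ≫ g⟩
  haveI : IsProper (Curv2.normalization D ↘ Spec (CommRingCat.of k)) := inferInstanceAs (IsProper (ι ≫ g))
  haveI : Nonempty V := hV.nonempty.to_subtype
  let j : (V : Scheme.{u}) ⟶ Curv2.normalization D := inv (ι ∣_ V) ≫ (ι ⁻¹ᵁ V).ι
  have hj : j ≫ ι = V.ι := by
    show (inv (ι ∣_ V) ≫ (ι ⁻¹ᵁ V).ι) ≫ ι = _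
    rw [Category.assoc, ← morphismRestrict_ι, IsIso.inv_hom_id_assoc]
  haveI : IsIntegral (V : Scheme.{u}) := isIntegral_of_isOpenImmersion V.ι
  have hgen : ι (genericPoint (Curv2.normalization D)) = genericPoint D := by
    rw [← genericPoint_eq_of_isOpenImmersion j, ← Scheme.Hom.comp_apply, hj, genericPoint_eq_of_isOpenImmersion]
  have hd : topologicalKrullDim (Curv2.normalization D) = 1 := by
    rw [VarDim.topologicalKrullDim_eq_deg_genericPoint (ι ≫ g), ← genericPoint_eq_of_isOpenImmersion j,
      ← VarDim.deg_comp (ι ≫ g) j, show j ≫ ι ≫ g = V.ι ≫ g by rw [← Category.assoc, hj],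
      VarDim.deg_comp g V.ι, genericPoint_eq_of_isOpenImmersion V.ι,
      ← VarDim.topologicalKrullDim_eq_deg_genericPoint g]
    exact hdim
  exact ⟨Curv2.normalization D, inferInstance, inferInstance, inferInstance, ι, hd,
    fun y => CurveRes.regular_normalization D hdim.le y, rfl, hgen⟩

variable {k}

/-- An invertible quotient of the pullback of a curve-nef module is nef. -/
theorem isNef_of_quotient {Y : Scheme.{u}} [Y.Over (Spec (CommRingCat.of k))] {E : Y.Modules} (hE : CurveNef k E)
    {Z : Scheme.{u}} [Z.Over (Spec (CommRingCat.of k))] [IsProper (Z ↘ Spec (CommRingCat.of k))]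
    (h : Z ⟶ Y) (hh : h ≫ (Y ↘ Spec (CommRingCat.of k)) = Z ↘ Spec (CommRingCat.of k))
    {N : Z.Modules} (hN : PicF.IsInvertible N) (q : (Scheme.Modules.pullback h).obj E ⟶ N) [Epi q] :
    NefPull.IsNef k N := by
  intro D hD hdim
  haveI := hD
  letI : D.subscheme.Over (Spec (CommRingCat.of k)) := ⟨D.subschemeι ≫ (Z ↘ Spec (CommRingCat.of k))⟩
  haveI : IsProper (D.subscheme ↘ Spec (CommRingCat.of k)) :=
    inferInstanceAs (IsProper (D.subschemeι ≫ (Z ↘ Spec (CommRingCat.of k))))
  have hd : topologicalKrullDim D.subscheme = 1 := by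
    rw [IsHomeomorph.topologicalKrullDim_eq _
      ((D.subschemeι.isEmbedding.toHomeomorph).trans (Homeomorph.setCongr D.range_subschemeι)).isHomeomorph, hdim]
  rw [Nakai.euler_sub_eq_deg (k := k) hN D]
  obtain ⟨C, _, _, _, n, hC, hreg, hn, hgen⟩ := exists_regular_cover k hd
  let N₁ := (Scheme.Modules.pullback D.subschemeι).obj N
  have hN₁ : PicF.IsInvertible N₁ := PicClLib.isInvertible_pullback _ hN
  let g : C ⟶ Y := (n ≫ D.subschemeι) ≫ h
  have hg : g ≫ (Y ↘ Spec (CommRingCat.of k)) = C ↘ Spec (CommRingCat.of k) := by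
    show ((n ≫ D.subschemeι) ≫ h) ≫ _ = _
    rw [Category.assoc, hh, Category.assoc]
    exact hn
  let q' : (Scheme.Modules.pullback g).obj E ⟶ (Scheme.Modules.pullback n).obj N₁ :=
    ((Scheme.Modules.pullbackComp (n ≫ D.subschemeι) h).app E).inv ≫
      (Scheme.Modules.pullback (n ≫ D.subschemeι)).map q ≫ ((Scheme.Modules.pullbackComp n D.subschemeι).app N).inv
  haveI : Epi ((Scheme.Modules.pullback (n ≫ D.subschemeι)).map q) := inferInstance
  haveI : Epi q' := inferInstance
  have hpos := hE C hC hreg g hg _ (PicClLib.isInvertible_pullback n hN₁) q' inferInstance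
  haveI := DegPull.isFinite k hC hd n hn hgen
  rw [DegPull.deg_pullback k hC hd n hn hgen (InvEnd.isFinLocFreeOfRank_one hN₁)] at hpos
  refine (mul_nonneg_iff_of_pos_left ?_).1 hpos
  letI := (n.residueFieldMap (genericPoint C)).hom.toAlgebra
  haveI : Module.Finite (D.subscheme.residueField (n (genericPoint C))) (C.residueField (genericPoint C)) :=
    MorLib.GF.finite_residueFieldMap n (genericPoint C)
  exact Int.natCast_pos.2 Module.finrank_pos

end Groth.Agent.CurveTest
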